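import Mathlib
import Groth.Agent.GrInjLib.QuasiRegular

/-! Graded free modules and regularity in terms of local cohomology. -/

set_option autoImplicit false
set_option linter.style.haveILetI false
set_option linter.unusedSectionVars false
universe u

open DirectSum

namespace GrInjLib

variable {R : Type u} [CommRing R]
  {σ : Type u} [SetLike σ R] [AddSubgroupClass σ R] {𝒜 : ℤ → σ} [GradedRing 𝒜]

/-- The ring as a graded module. -/
noncomputable abbrev ringG : GrLC.GMod.{u} 𝒜 := GrLC.GMod.of 𝒜 R (ringPieces 𝒜)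

noncomputable instance freeDecomposition {n : ℕ} (e : Fin n → ℤ) :
    Decomposition (freePieces 𝒜 e) :=
  (free_isInternal 𝒜 e).chooseDecomposition

/-- The graded free module with basis in the given degrees. -/
noncomputable abbrev freeG {n : ℕ} (e : Fin n → ℤ) : GrLC.GMod.{u} 𝒜 :=
  { carrier := Fin n → R, gr := freePieces 𝒜 e }

theorem mem_freePieces {n : ℕ} {e : Fin n → ℤ} {g : ℤ} {v : Fin n → R} :
    v ∈ freePieces 𝒜 e g ↔ ∀ j, v j ∈ 𝒜 (g - e j) := Iff.rfl

theorem single_mem_freePieces {n : ℕ} (e : Fin n → ℤ) (j : Fin n) {g : ℤ} {r : R}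
    (hr : r ∈ 𝒜 (g - e j)) : (Pi.single j r : Fin n → R) ∈ freePieces 𝒜 e g := fun k => by
  by_cases h : k = j
  · subst h; rwa [Pi.single_eq_same]
  · rw [Pi.single_eq_of_ne h]; exact zero_mem _

theorem proj_free {n : ℕ} (e : Fin n → ℤ) (g : ℤ) (v : (freeG (𝒜 := 𝒜) e).carrier) (j : Fin n) :
    (proj (freeG (𝒜 := 𝒜) e).gr g v) j = (decompose 𝒜 (v j) (g - e j) : R) := by
  induction v using DirectSum.Decomposition.inductionOn (freeG (𝒜 := 𝒜) e).gr with
  | zero =>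
    rw [map_zero]
    show (0 : R) = (decompose 𝒜 (0 : R) (g - e j) : R)
    rw [decompose_zero]
    rfl
  | @homogeneous b w =>
    have hw : (w : (freeG (𝒜 := 𝒜) e).carrier) j ∈ 𝒜 (b - e j) := w.2 j
    by_cases h : b = g
    · subst h
      rw [proj_of_mem (freeG (𝒜 := 𝒜) e).gr w.2, decompose_of_mem_same 𝒜 hw]
    · rw [proj_of_mem_ne (freeG (𝒜 := 𝒜) e).gr w.2 h,
        decompose_of_mem_ne 𝒜 hw fun hh => h (sub_left_injective hh)]
      rfl
  | add v w hv hw =>
    rw [map_add, Pi.add_apply, hv, hw, Pi.add_apply, decompose_add, DirectSum.add_apply]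
    rfl

variable {a : HomogeneousIdeal 𝒜}

theorem van_free {i : ℕ} {g : ℤ} : ∀ {n : ℕ} (e : Fin n → ℤ),
    (∀ j, Van a (ringG (𝒜 := 𝒜)) i (g - e j)) → Van a (freeG (𝒜 := 𝒜) e) i g
  | 0, e, _ => van_of_subsingleton (fun v => funext fun j => j.elim0) i g
  | n + 1, e, h => by
    let f : (ringG (𝒜 := 𝒜)).carrier →ₗ[R] (freeG (𝒜 := 𝒜) e).carrier :=
      LinearMap.single R (fun _ : Fin (n + 1) => R) (Fin.last n)
    let q : (freeG (𝒜 := 𝒜) e).carrier →ₗ[R] (freeG (𝒜 := 𝒜) (e ∘ Fin.castSucc)).carrier :=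
      LinearMap.funLeft R R Fin.castSucc
    have hf : GrLC.IsGrHomDeg (ringG (𝒜 := 𝒜)).gr (freeG (𝒜 := 𝒜) e).gr f (e (Fin.last n)) :=
      fun j r hr => single_mem_freePieces e (Fin.last n) (by rw [add_sub_cancel_right]; exact hr)
    have hq : GrLC.IsGrHom (freeG (𝒜 := 𝒜) e).gr (freeG (𝒜 := 𝒜) (e ∘ Fin.castSucc)).gr q :=
      fun j v hv k => hv k.castSucc
    refine van_middle hf hq (Pi.single_injective (M := fun _ : Fin (n + 1) => R) (Fin.last n))
      (fun v => ⟨fun hv => ⟨v (Fin.last n), ?_⟩, ?_⟩) (fun w => ⟨Fin.snoc w 0, ?_⟩)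
      (sub_add_cancel g (e (Fin.last n))) (h _) (van_free _ fun j => h j.castSucc)
    · funext k
      induction k using Fin.lastCases with
      | last => exact Pi.single_eq_same _ _
      | cast k =>
        exact (Pi.single_eq_of_ne (Fin.castSucc_lt_last k).ne _).trans (congrFun hv k).symm
    · rintro ⟨r, rfl⟩
      funext k
      exact Pi.single_eq_of_ne (Fin.castSucc_lt_last k).ne _
    · funext k
      exact Fin.snoc_castSucc (α := fun _ : Fin (n + 1) => R) 0 w k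

variable (a) in
/-- `M` is `d`-regular in the sense of local cohomology. -/
def IsReg (M : GrLC.GMod.{u} 𝒜) (d : ℤ) : Prop :=
  ∀ (i : ℕ) (g : ℤ), d < g + i → Van a M i g

theorem IsReg.mono {M : GrLC.GMod.{u} 𝒜} {d d' : ℤ} (h : IsReg a M d) (hd : d ≤ d') :
    IsReg a M d' := fun i g hg => h i g (hd.trans_lt hg)

theorem isReg_free (hR : IsReg a (ringG (𝒜 := 𝒜)) 0) {n : ℕ} (e : Fin n → ℤ) {d : ℤ}
    (he : ∀ j, e j ≤ d) : IsReg a (freeG (𝒜 := 𝒜) e) d := fun i g hg =>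
  van_free e fun j => hR i _ (by have := he j; omega)

theorem isReg_subG_congr {M : GrLC.GMod.{u} 𝒜} {P Q : Submodule R M.carrier} (h : P = Q)
    (hP : P.IsHomogeneous M.gr) (hQ : Q.IsHomogeneous M.gr) {d : ℤ}
    (hd : IsReg a (subG 𝒜 M.gr hP) d) : IsReg a (subG 𝒜 M.gr hQ) d := by
  subst h
  exact hd

theorem van_zero_sub {A B C : GrLC.GMod.{u} 𝒜} {f : A.carrier →ₗ[R] B.carrier}
    {g : B.carrier →ₗ[R] C.carrier} {d : ℤ} (hf : GrLC.IsGrHomDeg A.gr B.gr f d)
    (hg : GrLC.IsGrHom B.gr C.gr g) (hinj : Function.Injective f)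
    (hex : ∀ b, g b = 0 ↔ ∃ x, f x = b) (hsurj : Function.Surjective g) {e e' : ℤ}
    (he : e + d = e') (hB : Van a B 0 e') : Van a A 0 e := fun EA => by
  obtain ⟨EB⟩ := exists_starInjRes 𝒜 B.gr
  obtain ⟨EC⟩ := exists_starInjRes 𝒜 C.gr
  obtain ⟨Lf⟩ := exists_lift EA EB hf
  obtain ⟨Lg⟩ := exists_lift EB EC ((isGrHom_iff B.gr C.gr).1 hg)
  obtain ⟨h0, -⟩ := exists_long_exact Lf Lg a hf hg hinj hex hsurj
  refine (Submodule.eq_bot_iff _).2 fun y hy => h0 ?_
  have h1 := Lf.mapH_grHomDeg a 0 e y hy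
  rw [he] at h1
  have h2 : Lf.mapH a 0 y ∈ EB.Hcomp a 0 e' := h1
  rw [hB EB, Submodule.mem_bot] at h2
  rw [h2, map_zero]

theorem van_zero_of_gam_bot {M : GrLC.GMod.{u} 𝒜} (h : GrLC.gam a.toIdeal M.carrier = ⊥) (g : ℤ) :
    Van a M 0 g := fun E => by
  obtain ⟨φ, hφ⟩ := exists_gam_piece_surjective E a g
  refine (Submodule.eq_bot_iff _).2 fun z hz => ?_
  obtain ⟨⟨y, hy1, hy2⟩, hy⟩ := hφ ⟨z, hz⟩
  have h0 : y = 0 := (Submodule.mem_bot R).1 (h.le hy1)
  have := congrArg Subtype.val hy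
  rw [show (⟨y, hy1, hy2⟩ :
    ↥((GrLC.gam a.toIdeal M.carrier).restrictScalars (GrLC.deg0 𝒜) ⊓ GrLC.comp 𝒜 M.gr g)) = 0
    from Subtype.ext h0, map_zero] at this
  exact this.symm

theorem isReg_congr {A B : GrLC.GMod.{u} 𝒜} (f : A.carrier →ₗ[R] B.carrier)
    (hf : GrLC.IsGrHom A.gr B.gr f) (hbij : Function.Bijective f) {d : ℤ} (hA : IsReg a A d) :
    IsReg a B d := fun i g hg => by
  have hR := range_homogeneous A.gr B.gr ((isGrHom_iff _ _).1 hf)
  refine van_middle ((isGrHom_iff _ _).1 hf) (quotMk_grHom 𝒜 B.gr hR) hbij.1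
    (fun b => by rw [← LinearMap.mem_ker, ker_quotMk]; exact LinearMap.mem_range)
    (quotMk_surjective 𝒜 B.gr hR) (add_zero g) (hA i g hg) (van_of_subsingleton (fun y => ?_) i g)
  obtain ⟨b, rfl⟩ := quotMk_surjective 𝒜 B.gr hR y
  exact LinearMap.mem_ker.1 ((ker_quotMk 𝒜 B.gr hR).ge (hbij.2 b))

section Noeth

variable [IsNoetherianRing R]

/-- Local cohomology vanishes above the number of generators. -/
theorem van_of_card_lt (S : Finset R) (hspan : a.toIdeal = Ideal.span (S : Set R))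
    (M : GrLC.GMod.{u} 𝒜) {i : ℕ} (hi : S.card < i) (g : ℤ) : Van a M i g := fun E => by
  obtain ⟨e⟩ := exists_H_equiv_locCoh E a i
  have := Groth.Agent.LocCohLib.subsingleton_of_card_lt S (ModuleCat.of R M.carrier) i hi
  rw [← hspan] at this
  haveI : Subsingleton (E.H a i) := e.toEquiv.subsingleton
  exact (Submodule.eq_bot_iff _).2 fun y _ => Subsingleton.elim y 0

/-- Regularity of a torsion module. -/
theorem isReg_of_torsion_iff {M : GrLC.GMod.{u} 𝒜} (h : GrLC.gam a.toIdeal M.carrier = ⊤) (d : ℤ) :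
    IsReg a M d ↔ ∀ n, d < n → ∀ x ∈ M.gr n, x = 0 := by
  refine ⟨fun hM n hn x hx =>
    eq_zero_of_van_zero (hM 0 n (by simpa using hn)) hx (h.ge Submodule.mem_top), fun hM i g hg => ?_⟩
  cases i with
  | succ i => exact van_of_torsion h i g
  | zero =>
    intro E
    obtain ⟨φ, hφ⟩ := exists_gam_piece_surjective E a g
    refine (Submodule.eq_bot_iff _).2 fun z hz => ?_
    obtain ⟨⟨y, hy1, hy2⟩, hy⟩ := hφ ⟨z, hz⟩
    have h0 : y = 0 := hM g (by simpa using hg) y hy2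
    have := congrArg Subtype.val hy
    rw [show (⟨y, hy1, hy2⟩ :
      ↥((GrLC.gam a.toIdeal M.carrier).restrictScalars (GrLC.deg0 𝒜) ⊓ GrLC.comp 𝒜 M.gr g)) = 0
      from Subtype.ext h0, map_zero] at this
    exact this.symm

/-- The textbook form of regularity. -/
theorem isReg_iff_weak (hhom : a.toIdeal = Ideal.span (𝒜 1 : Set R)) (M : GrLC.GMod.{u} 𝒜) (d : ℤ) :
    ((∀ n, d < n → Van a M 0 n) ∧ ∀ i : ℕ, 0 < i → Van a M i (d - i + 1)) ↔ IsReg a M d := by
  obtain ⟨S, hS, hspan⟩ := exists_linear_generators hhom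
  refine ⟨fun ⟨h0, h1⟩ i g hg => ?_, fun h => ⟨fun n hn => h 0 n (by simpa using hn),
    fun i _ => h i _ (by omega)⟩⟩
  cases i with
  | zero => exact h0 g (by simpa using hg)
  | succ i =>
    have := regular_up (M := M) S hS hspan.le d 1 le_rfl (fun j hj => by
      convert h1 j hj using 1
      ring) (g + (i + 1 : ℕ)) hg (i + 1) (by omega)
    simpa using this

end Noeth

end GrInjLib
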