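import Mathlib
import Groth.Prelude.Def_GrSyz
import Groth.Agent.GrRegLib.Free

/-! Minimal free resolutions and regularity. -/

set_option autoImplicit false
set_option linter.style.haveILetI false
set_option linter.unusedSectionVars false
universe u

open DirectSum

namespace GrInjLib

variable {R : Type u} [CommRing R]
  {σ : Type u} [SetLike σ R] [AddSubgroupClass σ R] {𝒜 : ℤ → σ} [GradedRing 𝒜]
  {a : HomogeneousIdeal 𝒜}

section Step

variable [IsNoetherianRing R] {X : GrLC.GMod.{u} 𝒜} {n : ℕ} {e : Fin n → ℤ}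
  {π : (freeG (𝒜 := 𝒜) e).carrier →ₗ[R] X.carrier}
  (hπ : GrLC.IsGrHom (freeG (𝒜 := 𝒜) e).gr X.gr π) (hsurj : Function.Surjective π)
  (hR : IsReg a (ringG (𝒜 := 𝒜)) 0) (hK : (LinearMap.ker π).IsHomogeneous (freeG (𝒜 := 𝒜) e).gr)

include hπ hsurj hR hK in
theorem isReg_ker {d : ℤ} (hX : IsReg a X d) (he : ∀ j, e j ≤ d) :
    IsReg a (subG 𝒜 (freeG (𝒜 := 𝒜) e).gr hK) (d + 1) := by
  have hinc := (isGrHom_iff _ _).1 (subIncl_grHom 𝒜 (freeG (𝒜 := 𝒜) e).gr hK)
  have hex : ∀ b, π b = 0 ↔ ∃ x, subIncl 𝒜 (freeG (𝒜 := 𝒜) e).gr hK x = b := fun b => by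
    rw [← LinearMap.mem_range, range_subIncl, LinearMap.mem_ker]
  intro i g hg
  cases i with
  | zero =>
    exact van_zero_sub hinc hπ (subIncl_injective _ _ _) hex hsurj (add_zero g)
      (isReg_free hR e he 0 g (by omega))
  | succ i =>
    exact van_left hinc hπ (subIncl_injective _ _ _) hex hsurj (add_zero g)
      (hX i g (by omega)) (isReg_free hR e he (i + 1) g (by omega))

include hπ hsurj hR hK in
theorem isReg_of_ker {d : ℤ} (hKd : IsReg a (subG 𝒜 (freeG (𝒜 := 𝒜) e).gr hK) (d + 1))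
    (he : ∀ j, e j ≤ d) : IsReg a X d := by
  have hinc := (isGrHom_iff _ _).1 (subIncl_grHom 𝒜 (freeG (𝒜 := 𝒜) e).gr hK)
  have hex : ∀ b, π b = 0 ↔ ∃ x, subIncl 𝒜 (freeG (𝒜 := 𝒜) e).gr hK x = b := fun b => by
    rw [← LinearMap.mem_range, range_subIncl, LinearMap.mem_ker]
  exact fun i g hg => van_right hinc hπ (subIncl_injective _ _ _) hex hsurj (add_zero g)
    (isReg_free hR e he i g hg) (hKd (i + 1) g (by omega))

include hπ hsurj in
theorem deg_le_of_isReg (hpos : ∀ g : ℤ, g < 0 → ∀ x ∈ 𝒜 g, x = 0)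
    (hhom : a.toIdeal = Ideal.span (𝒜 1 : Set R)) {𝔪 : Ideal R} (h1 : (1 : R) ∉ 𝔪)
    (hmin : ∀ v, π v = 0 → ∀ j, v j ∈ 𝔪) {d : ℤ} (hX : IsReg a X d) (b : Fin n) : e b ≤ d := by
  classical
  haveI : Module.Finite R X.carrier := Module.Finite.of_surjective π hsurj
  let P : Submodule R (freeG (𝒜 := 𝒜) e).carrier :=
    { carrier := {v | ∀ j, d < e j → v j = 0}
      add_mem' := fun {u v} hu hv j hj => by
        show u j + v j = 0
        rw [hu j hj, hv j hj, add_zero]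
      zero_mem' := fun j _ => rfl
      smul_mem' := fun c v hv j hj => by
        show c * v j = 0
        rw [hv j hj, mul_zero] }
  have htop : P.map π = ⊤ := mem_of_generated (a := a) hpos hhom X _ fun g => by
    by_cases hg : g ≤ d
    · refine Or.inl fun x hx => ?_
      obtain ⟨w, hw, rfl⟩ := exists_preimage_piece (freeG (𝒜 := 𝒜) e).gr X.gr
        ((isGrHom_iff _ _).1 hπ) (g := g) (by rwa [add_zero]) (hsurj x)
      exact ⟨w, fun j hj => hpos (g - e j) (by omega) _ (hw j), rfl⟩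
    · exact Or.inr ⟨hX 0 g (by omega), fun j => hX (1 + j) _ (by push_cast; omega)⟩
  by_contra hb
  obtain ⟨w, hw, hwe⟩ := htop.ge (Submodule.mem_top (x := π (Pi.single b 1)))
  have := hmin ((Pi.single b 1 : Fin n → R) - w) (by rw [map_sub, hwe, sub_self]) b
  rw [Pi.sub_apply, Pi.single_eq_same, hw b (by omega), sub_zero] at this
  exact h1 this

end Step

section FreeRes

variable [IsNoetherianRing R] {X : GrLC.GMod.{u} 𝒜} (F : GrSyz.FreeRes 𝒜 X.gr)

theorem aug_grHom : GrLC.IsGrHom (freeG (𝒜 := 𝒜) (F.deg 0)).gr X.gr F.augLin := fun g v hv => by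
  rw [Fintype.linearCombination_apply]
  refine sum_mem fun b _ => ?_
  have := smul_mem 𝒜 X.gr (hv b) (F.aug_mem b)
  rwa [sub_add_cancel] at this

theorem d_grHom (j : ℕ) :
    GrLC.IsGrHom (freeG (𝒜 := 𝒜) (F.deg (j + 1))).gr (freeG (𝒜 := 𝒜) (F.deg j)).gr (F.dLin j) := by
  intro g v hv c
  rw [Matrix.mulVecLin_apply]
  show (∑ b, F.d j c b * v b) ∈ 𝒜 (g - F.deg j c)
  refine sum_mem fun b _ => ?_
  have := SetLike.GradedMul.mul_mem (F.d_mem j c b) (hv b)
  rwa [show F.deg (j + 1) b - F.deg j c + (g - F.deg (j + 1) b) = g - F.deg j c by abel] at this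

theorem range_d_homogeneous (j : ℕ) :
    (LinearMap.range (F.dLin j)).IsHomogeneous (freeG (𝒜 := 𝒜) (F.deg j)).gr :=
  range_homogeneous (freeG (𝒜 := 𝒜) (F.deg (j + 1))).gr (freeG (𝒜 := 𝒜) (F.deg j)).gr
    ((isGrHom_iff _ _).1 (d_grHom F j))

/-- The syzygy modules. -/
noncomputable def syz (j : ℕ) : GrLC.GMod.{u} 𝒜 :=
  subG 𝒜 (freeG (𝒜 := 𝒜) (F.deg j)).gr (range_d_homogeneous F j)

/-- The differential onto the syzygy module. -/
noncomputable def toSyz (j : ℕ) :
    (freeG (𝒜 := 𝒜) (F.deg (j + 1))).carrier →ₗ[R] (syz F j).carrier :=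
  toSubG 𝒜 (freeG (𝒜 := 𝒜) (F.deg j)).gr (range_d_homogeneous F j) (F.dLin j)
    fun x => LinearMap.mem_range_self _ x

theorem toSyz_grHom (j : ℕ) :
    GrLC.IsGrHom (freeG (𝒜 := 𝒜) (F.deg (j + 1))).gr (syz F j).gr (toSyz F j) :=
  toSubG_grHom 𝒜 _ (range_d_homogeneous F j) _ (d_grHom F j) _

theorem toSyz_surjective (j : ℕ) : Function.Surjective (toSyz F j) := fun y => by
  obtain ⟨x, hx⟩ := subIncl_mem 𝒜 (freeG (𝒜 := 𝒜) (F.deg j)).gr (range_d_homogeneous F j) y
  exact ⟨x, subIncl_injective _ _ _ hx⟩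

theorem ker_toSyz (j : ℕ) : LinearMap.ker (toSyz F j) = LinearMap.range (F.dLin (j + 1)) := by
  ext v
  rw [LinearMap.mem_ker, ← F.exact_succ j]
  refine ⟨fun h => ?_, fun h => subIncl_injective _ _ _ ?_⟩
  · exact (congrArg (subIncl 𝒜 (freeG (𝒜 := 𝒜) (F.deg j)).gr (range_d_homogeneous F j)) h).trans
      (map_zero _)
  · exact h.trans (map_zero _).symm

variable {F} {𝔪 : Ideal R}

theorem range_d_minimal (hF : F.IsMinimal 𝔪) (j : ℕ) {v : Fin (F.rk j) → R}
    (hv : v ∈ LinearMap.range (F.dLin j)) (c : Fin (F.rk j)) : v c ∈ 𝔪 := by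
  obtain ⟨w, rfl⟩ := hv
  rw [Matrix.mulVecLin_apply]
  show (∑ b, F.d j c b * w b) ∈ 𝔪
  exact sum_mem fun b _ => Ideal.mul_mem_right _ _ (hF j c b)

/-- Regularity bounds the degrees of a minimal resolution. -/
theorem genLE_of_isReg (hpos : ∀ g : ℤ, g < 0 → ∀ x ∈ 𝒜 g, x = 0)
    (hhom : a.toIdeal = Ideal.span (𝒜 1 : Set R)) (h1 : (1 : R) ∉ 𝔪)
    (hR : IsReg a (ringG (𝒜 := 𝒜)) 0) (hF : F.IsMinimal 𝔪) {d : ℤ} (hX : IsReg a X d) :
    F.IsGenLE d := by
  suffices key : ∀ j, (∀ b, F.deg j b ≤ d + j) ∧ IsReg a (syz F j) (d + j + 1) from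
    fun j b => (key j).1 b
  intro j
  induction j with
  | zero =>
    have he : ∀ b, F.deg 0 b ≤ d := deg_le_of_isReg (aug_grHom F) F.aug_surjective hpos hhom h1
      (fun v hv => range_d_minimal hF 0 (F.exact_zero.le (LinearMap.mem_ker.2 hv))) hX
    have hker : (LinearMap.ker F.augLin).IsHomogeneous (freeG (𝒜 := 𝒜) (F.deg 0)).gr :=
      ker_homogeneous _ _ ((isGrHom_iff _ _).1 (aug_grHom F))
    refine ⟨fun b => by simpa using he b, ?_⟩
    simp only [Nat.cast_zero, add_zero]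
    exact isReg_subG_congr F.exact_zero hker (range_d_homogeneous F 0)
      (isReg_ker (aug_grHom F) F.aug_surjective hR hker hX he)
  | succ j ih =>
    have he : ∀ b, F.deg (j + 1) b ≤ d + j + 1 :=
      deg_le_of_isReg (toSyz_grHom F j) (toSyz_surjective F j) hpos hhom h1
        (fun v hv => range_d_minimal hF (j + 1) ((ker_toSyz F j).le (LinearMap.mem_ker.2 hv))) ih.2
    have hker : (LinearMap.ker (toSyz F j)).IsHomogeneous (freeG (𝒜 := 𝒜) (F.deg (j + 1))).gr :=
      ker_homogeneous _ _ ((isGrHom_iff _ _).1 (toSyz_grHom F j))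
    refine ⟨fun b => by have := he b; push_cast; omega, ?_⟩
    have := isReg_subG_congr (ker_toSyz F j) hker (range_d_homogeneous F (j + 1))
      (isReg_ker (toSyz_grHom F j) (toSyz_surjective F j) hR hker ih.2 he)
    exact this.mono (by push_cast; omega)

/-- The degrees of a resolution bound the regularity. -/
theorem isReg_of_genLE (S : Finset R) (hspan : a.toIdeal = Ideal.span (S : Set R))
    (hR : IsReg a (ringG (𝒜 := 𝒜)) 0) {d : ℤ} (hd : F.IsGenLE d) : IsReg a X d := by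
  have hker0 : (LinearMap.ker F.augLin).IsHomogeneous (freeG (𝒜 := 𝒜) (F.deg 0)).gr :=
    ker_homogeneous _ _ ((isGrHom_iff _ _).1 (aug_grHom F))
  suffices key : ∀ (m j i : ℕ) (g : ℤ), S.card < i + m → d + j + 1 < g + i → Van a (syz F j) i g by
    refine isReg_of_ker (aug_grHom F) F.aug_surjective hR hker0 ?_ (fun b => by simpa using hd 0 b)
    exact isReg_subG_congr F.exact_zero.symm (range_d_homogeneous F 0) hker0
      fun i g hg => key (S.card + 1) 0 i g (by omega) (by simpa using hg)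
  intro m
  induction m with
  | zero => exact fun j i g hi _ => van_of_card_lt S hspan _ (by simpa using hi) g
  | succ m ih =>
    intro j i g hi hg
    have hker : (LinearMap.ker (toSyz F j)).IsHomogeneous (freeG (𝒜 := 𝒜) (F.deg (j + 1))).gr :=
      ker_homogeneous _ _ ((isGrHom_iff _ _).1 (toSyz_grHom F j))
    refine van_right
      ((isGrHom_iff _ _).1 (subIncl_grHom 𝒜 (freeG (𝒜 := 𝒜) (F.deg (j + 1))).gr
        (range_d_homogeneous F (j + 1))))
      (toSyz_grHom F j) (subIncl_injective _ _ _) (fun b => ?_) (toSyz_surjective F j) (add_zero g)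
      (isReg_free hR _ (hd (j + 1)) i g (by push_cast; omega))
      (ih (j + 1) (i + 1) g (by omega) (by push_cast; omega))
    rw [← LinearMap.mem_range, range_subIncl, ← ker_toSyz, LinearMap.mem_ker]

end FreeRes

section Exists

variable (𝒜) in
/-- A free cover, minimal with respect to `𝔪`. -/
def HasCover (X : GrLC.GMod.{u} 𝒜) (n : ℕ) : Prop :=
  ∃ (e : Fin n → ℤ) (π : (freeG (𝒜 := 𝒜) e).carrier →ₗ[R] X.carrier),
    GrLC.IsGrHom (freeG (𝒜 := 𝒜) e).gr X.gr π ∧ Function.Surjective π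

theorem exists_hasCover (X : GrLC.GMod.{u} 𝒜) [Module.Finite R X.carrier] :
    ∃ n, HasCover 𝒜 X n := by
  obtain ⟨κ, hκ, e, π, hπ, hsurj⟩ := exists_free_cover 𝒜 X.gr
  let eq := (Fintype.equivFin κ).symm
  refine ⟨_, e ∘ eq, π ∘ₗ (LinearEquiv.funCongrLeft R R eq.symm).toLinearMap, fun g v hv => ?_,
    hsurj.comp (LinearEquiv.funCongrLeft R R eq.symm).surjective⟩
  refine hπ g _ fun j => ?_
  have := hv (eq.symm j)
  rw [Function.comp_apply, Equiv.apply_symm_apply] at this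
  exact this

variable {𝔪 : Ideal R}

theorem exists_minimal_cover (hunit : ∀ g, ∀ r ∈ 𝒜 g, r ∉ 𝔪 → IsUnit r) (X : GrLC.GMod.{u} 𝒜)
    [Module.Finite R X.carrier] :
    ∃ (n : ℕ) (e : Fin n → ℤ) (π : (freeG (𝒜 := 𝒜) e).carrier →ₗ[R] X.carrier),
      GrLC.IsGrHom (freeG (𝒜 := 𝒜) e).gr X.gr π ∧ Function.Surjective π ∧
        ∀ v, π v = 0 → ∀ j, v j ∈ 𝔪 := by
  classical
  have hex := exists_hasCover X
  obtain ⟨e, π, hπ, hsurj⟩ := Nat.find_spec hex
  refine ⟨_, e, π, hπ, hsurj, fun v hv j => ?_⟩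
  by_contra hj
  -- a homogeneous component of the relation has a unit coordinate
  obtain ⟨b, hb⟩ : ∃ b, (decompose 𝒜 (v j) b : R) ∉ 𝔪 := by
    by_contra! h
    exact hj (by rw [← sum_support_decompose 𝒜 (v j)]; exact sum_mem fun b _ => h b)
  let w := proj (freeG (𝒜 := 𝒜) e).gr (b + e j) v
  have hw : π w = 0 := by
    rw [← proj_map₀ (freeG (𝒜 := 𝒜) e).gr X.gr hπ, hv, map_zero]
  have hwj : IsUnit (w j) := by
    rw [show w j = _ from proj_free e (b + e j) v j, add_sub_cancel_right]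
    exact hunit b _ (SetLike.coe_mem _) hb
  obtain ⟨m, hm⟩ : ∃ m, Nat.find hex = m + 1 :=
    Nat.exists_eq_succ_of_ne_zero fun h0 => (Fin.cast h0 j).elim0
  revert e π v j b
  rw [hm]
  intro e π hπ hsurj v _ j _ b _ w hw hwj
  obtain ⟨c, hc⟩ := hwj
  let L : (Fin m → R) →ₗ[R] (Fin (m + 1) → R) :=
    Fintype.linearCombination R fun k => (Pi.single (j.succAbove k) 1 : Fin (m + 1) → R)
  have hLg : GrLC.IsGrHom (freeG (𝒜 := 𝒜) (e ∘ j.succAbove)).gr (freeG (𝒜 := 𝒜) e).gr L :=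
    fun g u hu => by
      show Fintype.linearCombination R _ u ∈ _
      rw [Fintype.linearCombination_apply]
      refine sum_mem fun k _ => ?_
      rw [← Pi.single_smul, smul_eq_mul, mul_one]
      exact single_mem_freePieces e (j.succAbove k) (hu k)
  refine Nat.find_min hex (by omega : m < Nat.find hex)
    ⟨e ∘ j.succAbove, π ∘ₗ L, fun g u hu => hπ g _ (hLg g u hu), fun x => ?_⟩
  have hgen : ∀ k, π (Pi.single k 1) ∈ LinearMap.range (π ∘ₗ L) := by
    intro k
    have hoff : ∀ i : Fin m, π (Pi.single (j.succAbove i) 1) ∈ LinearMap.range (π ∘ₗ L) := fun i =>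
      ⟨Pi.single i 1, by
        show π (Fintype.linearCombination R _ _) = _
        rw [Fintype.linearCombination_apply_single, one_smul]⟩
    rcases Fin.eq_self_or_eq_succAbove j k with h | ⟨i, rfl⟩
    · rw [h]
      have h1 : π w = w j • π (Pi.single j 1) +
          ∑ i, w (j.succAbove i) • π (Pi.single (j.succAbove i) 1) := by
        conv_lhs => rw [pi_eq_sum_univ' w, Fin.sum_univ_succAbove _ j]
        simp only [map_add, map_sum, map_smul]
      rw [hw, ← hc] at h1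
      have h2 : (c : R) • π (Pi.single j 1) ∈ LinearMap.range (π ∘ₗ L) := by
        rw [eq_neg_of_add_eq_zero_left h1.symm]
        exact neg_mem (Submodule.sum_mem _ fun i _ => Submodule.smul_mem _ _ (hoff i))
      have := Submodule.smul_mem _ ((c⁻¹ : Rˣ) : R) h2
      rwa [← mul_smul, Units.inv_mul, one_smul] at this
    · exact hoff i
  obtain ⟨u, rfl⟩ := hsurj x
  rw [pi_eq_sum_univ' u, map_sum]
  simp only [map_smul]
  exact Submodule.sum_mem _ fun k _ => Submodule.smul_mem _ _ (hgen k)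

variable (𝒜 𝔪) in
/-- The state in the construction of a minimal resolution. -/
structure ResStage where
  /-- the rank -/
  n : ℕ
  /-- the degrees -/
  e : Fin n → ℤ
  /-- the next syzygy module -/
  K : Submodule R (freeG (𝒜 := 𝒜) e).carrier
  hK : K.IsHomogeneous (freeG (𝒜 := 𝒜) e).gr
  min : ∀ v ∈ K, ∀ j, v j ∈ 𝔪

theorem exists_next_stage [IsNoetherianRing R] (hunit : ∀ g, ∀ r ∈ 𝒜 g, r ∉ 𝔪 → IsUnit r)
    (s : ResStage 𝒜 𝔪) :
    ∃ (t : ResStage 𝒜 𝔪) (D : (freeG (𝒜 := 𝒜) t.e).carrier →ₗ[R] (freeG (𝒜 := 𝒜) s.e).carrier),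
      GrLC.IsGrHom (freeG (𝒜 := 𝒜) t.e).gr (freeG (𝒜 := 𝒜) s.e).gr D ∧
        LinearMap.range D = s.K ∧ LinearMap.ker D = t.K := by
  haveI : Module.Finite R (subG 𝒜 (freeG (𝒜 := 𝒜) s.e).gr s.hK).carrier :=
    inferInstanceAs (Module.Finite R s.K)
  obtain ⟨n, e, π, hπ, hsurj, hmin⟩ :=
    exists_minimal_cover hunit (subG 𝒜 (freeG (𝒜 := 𝒜) s.e).gr s.hK)
  refine ⟨⟨n, e, LinearMap.ker π, ker_homogeneous _ _ ((isGrHom_iff _ _).1 hπ),
    fun v hv => hmin v (LinearMap.mem_ker.1 hv)⟩, subIncl 𝒜 (freeG (𝒜 := 𝒜) s.e).gr s.hK ∘ₗ π,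
    fun g v hv => subIncl_grHom _ _ _ g _ (hπ g v hv), ?_, ?_⟩
  · rw [LinearMap.range_comp, LinearMap.range_eq_top.2 hsurj, Submodule.map_top, range_subIncl]
  · rw [LinearMap.ker_comp, LinearMap.ker_eq_bot.2 (subIncl_injective _ _ _), Submodule.comap_bot]

/-- Minimal free resolutions exist. -/
theorem exists_minimal_res [IsNoetherianRing R] (hunit : ∀ g, ∀ r ∈ 𝒜 g, r ∉ 𝔪 → IsUnit r)
    (X : GrLC.GMod.{u} 𝒜) [Module.Finite R X.carrier] :
    ∃ F : GrSyz.FreeRes 𝒜 X.gr, F.IsMinimal 𝔪 := by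
  classical
  obtain ⟨n, e, π, hπ, hsurj, hmin⟩ := exists_minimal_cover hunit X
  let s₀ : ResStage 𝒜 𝔪 := ⟨n, e, LinearMap.ker π,
    ker_homogeneous _ _ ((isGrHom_iff _ _).1 hπ), fun v hv => hmin v (LinearMap.mem_ker.1 hv)⟩
  choose nxt D hDg hDr hDk using exists_next_stage (𝒜 := 𝒜) hunit
  let st : ℕ → ResStage 𝒜 𝔪 := fun j => Nat.rec s₀ (fun _ s => nxt s) j
  have hπlin : (Fintype.linearCombination R fun b => π (Pi.single b 1)) = π :=
    LinearMap.pi_ext' fun b => LinearMap.ext_ring (by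
      show Fintype.linearCombination R _ (Pi.single b 1) = π (Pi.single b 1)
      rw [Fintype.linearCombination_apply_single, one_smul])
  have hlin : ∀ j, Matrix.mulVecLin (LinearMap.toMatrix' (D (st j))) = D (st j) := fun j => by
    rw [← Matrix.toLin'_apply', Matrix.toLin'_toMatrix']
  refine ⟨{
    rk := fun j => (st j).n
    deg := fun j => (st j).e
    d := fun j => LinearMap.toMatrix' (D (st j))
    aug := fun b => π (Pi.single b 1)
    d_mem := fun j c b => ?_
    aug_mem := fun b => hπ _ _ (single_mem_freePieces e b (by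
      rw [show (st 0).e b = e b from rfl, sub_self]; exact SetLike.one_mem_graded 𝒜))
    aug_surjective := (congrArg (fun f : (Fin n → R) →ₗ[R] X.carrier => Function.Surjective f) hπlin).mpr hsurj
    exact_zero := ((congrArg LinearMap.ker hπlin).trans (hDr (st 0)).symm).trans
      (congrArg LinearMap.range (hlin 0)).symm
    exact_succ := fun j => (congrArg LinearMap.ker (hlin j)).trans
      (((hDk (st j)).trans (hDr (st (j + 1))).symm).trans
        (congrArg LinearMap.range (hlin (j + 1))).symm) }, fun j c b => ?_⟩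
  · rw [LinearMap.toMatrix'_apply]
    exact hDg (st j) _ (Pi.single b 1) (single_mem_freePieces _ b (by
      rw [sub_self]; exact SetLike.one_mem_graded 𝒜)) c
  · show LinearMap.toMatrix' (D (st j)) c b ∈ 𝔪
    rw [LinearMap.toMatrix'_apply]
    exact (st j).min _ ((hDr (st j)).le ⟨_, rfl⟩) c

end Exists

end GrInjLib
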