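import Mathlib
import Groth.Agent.GrRegLib.Res

/-! Regularity and weakly regular sequences of linear forms. -/

set_option autoImplicit false
set_option linter.style.haveILetI false
set_option linter.unusedSectionVars false
universe u

open DirectSum RingTheory.Sequence
open scoped Pointwise

namespace GrInjLib

variable {R : Type u} [CommRing R] [IsNoetherianRing R]
  {σ : Type u} [SetLike σ R] [AddSubgroupClass σ R] {𝒜 : ℤ → σ} [GradedRing 𝒜]
  {a : HomogeneousIdeal 𝒜}
  (hpos : ∀ g : ℤ, g < 0 → ∀ x ∈ 𝒜 g, x = 0)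
  (ha : a.toIdeal = Ideal.span (⋃ n ∈ Set.Ioi (0 : ℤ), (𝒜 n : Set R)))
  (hhom : a.toIdeal = Ideal.span (𝒜 1 : Set R))

include hpos ha hhom in
/-- Dividing by a regular linear form does not change the regularity. -/
theorem isReg_quot_regular {M N : GrLC.GMod.{u} 𝒜} [Module.Finite R M.carrier] {x : R}
    (hx : x ∈ 𝒜 (1 : ℤ)) (hreg : IsSMulRegular M.carrier x) {π : M.carrier →ₗ[R] N.carrier}
    (hπ : Function.Surjective π) (hπg : GrLC.IsGrHom M.gr N.gr π)
    (hker : LinearMap.ker π = LinearMap.range (x • (LinearMap.id : M.carrier →ₗ[R] M.carrier)))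
    (d : ℤ) : IsReg a M d ↔ IsReg a N d := by
  have hbot : Submodule.torsionBy R M.carrier x = ⊥ := (Submodule.eq_bot_iff _).2 fun y hy =>
    (isSMulRegular_iff_right_eq_zero_of_smul).1 hreg y hy
  haveI : Subsingleton ↥(Submodule.torsionBy R M.carrier x) := by
    rw [hbot]
    infer_instance
  have hgam : GrLC.gam a.toIdeal M.carrier = ⊥ := (Submodule.eq_bot_iff _).2 fun y ⟨k, hk⟩ => by
    refine (isSMulRegular_iff_right_eq_zero_of_smul).1 (hreg.pow k) y
      (hk _ (Ideal.pow_mem_pow ?_ k))
    rw [hhom]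
    exact Ideal.subset_span hx
  have h0 : ∀ n, d < n → Van a M 0 n := fun n _ => van_zero_of_gam_bot hgam n
  rw [← isReg_iff_weak hhom M d, ← isReg_iff_weak hhom N d]
  have key := regular_iff hpos hhom hx IsFiniteLength.of_subsingleton hπ hπg hker ha d
  exact key.trans (and_iff_left h0)

include hpos ha hhom in
/-- Dividing by a weakly regular sequence of linear forms does not change the regularity. -/
theorem isReg_quot_seq (ys : List R) : (∀ y ∈ ys, y ∈ 𝒜 (1 : ℤ)) →
    ∀ (M N : GrLC.GMod.{u} 𝒜) [Module.Finite R M.carrier] (π : M.carrier →ₗ[R] N.carrier),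
      IsWeaklyRegular M.carrier ys → Function.Surjective π → GrLC.IsGrHom M.gr N.gr π →
      LinearMap.ker π = Ideal.ofList ys • (⊤ : Submodule R M.carrier) →
      ∀ d, IsReg a M d ↔ IsReg a N d := by
  induction ys with
  | nil =>
    intro _ M N _ π _ hπ hπg hker d
    have hinj : Function.Injective π := LinearMap.ker_eq_bot.1 (by rw [hker]; simp)
    refine ⟨isReg_congr π hπg ⟨hinj, hπ⟩, fun hN => ?_⟩
    let e := LinearEquiv.ofBijective π ⟨hinj, hπ⟩
    refine isReg_congr e.symm.toLinearMap (fun g y hy => ?_) e.symm.bijective hN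
    obtain ⟨x, hx, rfl⟩ := exists_preimage_piece M.gr N.gr ((isGrHom_iff _ _).1 hπg) (g := g)
      (by rwa [add_zero]) (hπ y)
    show e.symm (π x) ∈ M.gr g
    rwa [show π x = e x from rfl, e.symm_apply_apply]
  | cons x ys ih =>
    intro hys M N _ π hwr hπ hπg hker d
    rw [isWeaklyRegular_cons_iff] at hwr
    have hx := hys x List.mem_cons_self
    let f : M.carrier →ₗ[R] M.carrier := x • LinearMap.id
    have hf : GrLC.IsGrHomDeg M.gr M.gr f 1 := fun g z hz => by
      show x • z ∈ M.gr (g + 1)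
      rw [add_comm]
      exact smul_mem 𝒜 M.gr hx hz
    have hR : (LinearMap.range f).IsHomogeneous M.gr := range_homogeneous M.gr M.gr hf
    let M₁ := quotG 𝒜 M.gr hR
    let π₁ := quotMk 𝒜 M.gr hR
    haveI : Module.Finite R M₁.carrier := Module.Finite.of_surjective π₁ (quotMk_surjective _ _ hR)
    have hxker : LinearMap.range f ≤ LinearMap.ker π := by
      rintro _ ⟨z, rfl⟩
      rw [hker]
      exact Submodule.smul_mem_smul (Ideal.subset_span List.mem_cons_self) Submodule.mem_top
    let π' : M₁.carrier →ₗ[R] N.carrier := (LinearMap.range f).liftQ π hxker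
    have hπ' : ∀ z, π' (π₁ z) = π z := fun _ => rfl
    have hπ's : Function.Surjective π' := fun y => by
      obtain ⟨z, rfl⟩ := hπ y
      exact ⟨π₁ z, rfl⟩
    have hπ'g : GrLC.IsGrHom M₁.gr N.gr π' := by
      rintro g _ ⟨z, hz, rfl⟩
      exact hπg g z hz
    have hrange : LinearMap.range f = x • (⊤ : Submodule R M.carrier) := by
      ext z
      simp [f, Submodule.mem_smul_pointwise_iff_exists]
    have hπ'k : LinearMap.ker π' = Ideal.ofList ys • (⊤ : Submodule R M₁.carrier) := by
      have h2 : LinearMap.ker π' = (LinearMap.ker π).map π₁ := Submodule.ker_liftQ _ _ _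
      rw [h2, hker, Submodule.map_smul'', Submodule.map_top,
        LinearMap.range_eq_top.2 (quotMk_surjective _ _ hR), Ideal.ofList_cons, Submodule.sup_smul,
        sup_eq_right]
      refine Submodule.smul_le.2 fun c hc y _ => ?_
      obtain ⟨c, rfl⟩ := Ideal.mem_span_singleton'.1 hc
      obtain ⟨z, rfl⟩ := quotMk_surjective _ _ hR y
      rw [← map_smul, LinearMap.mem_ker.1 ((ker_quotMk 𝒜 M.gr hR).ge
        (⟨c • z, by rw [mul_comm, mul_smul]; rfl⟩ :
          (c * x) • z ∈ LinearMap.range f))]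
      exact zero_mem _
    have hwr₁ : IsWeaklyRegular M₁.carrier ys := by
      have e : (M.carrier ⧸ LinearMap.range f) ≃ₗ[R] QuotSMulTop x M.carrier :=
        Submodule.quotEquivOfEq _ _ hrange
      exact (LinearEquiv.isWeaklyRegular_congr e ys).2 hwr.2
    exact (isReg_quot_regular hpos ha hhom hx hwr.1 (quotMk_surjective _ _ hR)
      (quotMk_grHom 𝒜 M.gr hR) (ker_quotMk 𝒜 M.gr hR) d).trans
      (ih (fun y hy => hys y (List.mem_cons_of_mem _ hy)) M₁ N π' hwr₁ hπ's hπ'g hπ'k d)

end GrInjLib
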