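import Mathlib
import Groth.Agent.GrRegLib.Seq

/-! Regularity over a standard graded polynomial ring over a field. -/

set_option autoImplicit false
set_option linter.style.haveILetI false
set_option linter.unusedSectionVars false
universe u

open DirectSum RingTheory.Sequence

namespace GrInjLib.Poly

variable {k : Type u} [Field k] {r : ℕ}

theorem hpos (n : ℤ) (hn : n < 0) (p : (MvPolynomial (Fin (r + 1)) k)) (hp : p ∈ (GrSyz.stdGr k (Fin (r + 1))) n) : p = 0 := by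
  refine MvPolynomial.IsWeightedHomogeneous.eq_zero_of_no_monomials hp fun m hm => ?_
  rw [Finsupp.weight_apply, Finsupp.sum] at hm
  have : (0 : ℤ) ≤ ∑ j ∈ m.support, m j • (1 : ℤ) := Finset.sum_nonneg fun j _ => by positivity
  omega

theorem irrel_eq_X :
    ((GrSyz.irrel (GrSyz.stdGr k (Fin (r + 1))))).toIdeal = Ideal.span (MvPolynomial.X '' (Set.univ : Set (Fin (r + 1))) : Set (MvPolynomial (Fin (r + 1)) k)) := by
  refine le_antisymm (Ideal.span_le.2 ?_) (Ideal.span_le.2 ?_)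
  · rintro p ⟨n, hn, hp⟩
    refine MvPolynomial.mem_ideal_span_X_image.2 fun m hm => ?_
    have hw := hp (MvPolynomial.mem_support_iff.1 hm)
    by_contra! h
    rw [show m = 0 from Finsupp.ext fun j => h j (Set.mem_univ j), map_zero] at hw
    omega
  · rintro _ ⟨j, -, rfl⟩
    exact Ideal.subset_span ⟨1, one_pos,
      MvPolynomial.isWeightedHomogeneous_X k (fun _ : Fin (r + 1) => (1 : ℤ)) j⟩

theorem X_mem (j : Fin (r + 1)) : (MvPolynomial.X j : (MvPolynomial (Fin (r + 1)) k)) ∈ (GrSyz.stdGr k (Fin (r + 1))) 1 :=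
  MvPolynomial.isWeightedHomogeneous_X k (fun _ : Fin (r + 1) => (1 : ℤ)) j

theorem hhom : ((GrSyz.irrel (GrSyz.stdGr k (Fin (r + 1))))).toIdeal = Ideal.span ((GrSyz.stdGr k (Fin (r + 1))) 1 : Set (MvPolynomial (Fin (r + 1)) k)) := by
  refine le_antisymm ?_ (Ideal.span_mono fun p hp => ⟨1, one_pos, hp⟩)
  rw [irrel_eq_X]
  exact Ideal.span_mono fun p ⟨j, _, hj⟩ => hj ▸ X_mem j

theorem ha : ((GrSyz.irrel (GrSyz.stdGr k (Fin (r + 1))))).toIdeal = Ideal.span (⋃ n ∈ Set.Ioi (0 : ℤ), ((GrSyz.stdGr k (Fin (r + 1))) n : Set (MvPolynomial (Fin (r + 1)) k))) := by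
  show Ideal.span _ = Ideal.span _
  congr 1
  ext p
  simp

theorem one_notMem : (1 : (MvPolynomial (Fin (r + 1)) k)) ∉ ((GrSyz.irrel (GrSyz.stdGr k (Fin (r + 1))))).toIdeal := by
  rw [irrel_eq_X]
  intro h
  obtain ⟨i, -, hi⟩ := MvPolynomial.mem_ideal_span_X_image.1 h 0 (by simp)
  exact hi rfl

theorem isUnit_of_notMem (g : ℤ) (p : (MvPolynomial (Fin (r + 1)) k)) (hp : p ∈ (GrSyz.stdGr k (Fin (r + 1))) g) (h : p ∉ ((GrSyz.irrel (GrSyz.stdGr k (Fin (r + 1))))).toIdeal) : IsUnit p := by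
  rcases lt_trichotomy g 0 with hg | hg | hg
  · exact absurd (by rw [hpos g hg p hp]; exact zero_mem _) h
  · subst hg
    have hC : p = MvPolynomial.C (MvPolynomial.coeff 0 p) := by
      ext m
      rw [MvPolynomial.coeff_C]
      split_ifs with hm
      · rw [← hm]
      · by_contra hne
        have hw := hp hne
        rw [Finsupp.weight_apply, Finsupp.sum] at hw
        obtain ⟨j, hj⟩ := Finsupp.support_nonempty_iff.2 (Ne.symm hm)
        have h0 := (Finset.sum_eq_zero_iff_of_nonneg fun j _ => by positivity).1 hw j hj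
        simp at h0
        exact Finsupp.mem_support_iff.1 hj h0
    rw [hC]
    refine (Ne.isUnit ?_).map MvPolynomial.C
    intro h0
    exact h (by rw [hC, h0, map_zero]; exact Ideal.zero_mem _)
  · exact absurd (Ideal.subset_span (s := {t | ∃ n : ℤ, 0 < n ∧ t ∈ (GrSyz.stdGr k (Fin (r + 1))) n}) ⟨g, hg, hp⟩) h

/-- The variables form a weakly regular sequence. -/
theorem isWeaklyRegular_X :
    IsWeaklyRegular (MvPolynomial (Fin (r + 1)) k) (List.ofFn fun j : Fin (r + 1) => (MvPolynomial.X j : (MvPolynomial (Fin (r + 1)) k))) := by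
  refine ⟨fun i hi => ?_⟩
  rw [List.length_ofFn] at hi
  have hI : (Ideal.ofList ((List.ofFn fun j : Fin (r + 1) => (MvPolynomial.X j : (MvPolynomial (Fin (r + 1)) k))).take i) •
      (⊤ : Submodule (MvPolynomial (Fin (r + 1)) k) (MvPolynomial (Fin (r + 1)) k))) = Ideal.span (MvPolynomial.X '' {j : Fin (r + 1) | (j : ℕ) < i} : Set (MvPolynomial (Fin (r + 1)) k)) := by
    rw [smul_eq_mul, Ideal.mul_top, Ideal.ofList]
    congr 1
    ext p
    simp only [Set.mem_setOf_eq, List.mem_take_iff_getElem, List.getElem_ofFn, List.length_ofFn,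
      Set.mem_image]
    exact ⟨fun ⟨j, hj, hp⟩ => ⟨⟨j, by omega⟩, by simpa using (lt_min_iff.1 hj).1, hp⟩,
      fun ⟨j, hj, hp⟩ => ⟨j, lt_min hj j.2, hp⟩⟩
  rw [List.getElem_ofFn]
  refine (isSMulRegular_iff_right_eq_zero_of_smul).2 fun y hy => ?_
  obtain ⟨p, rfl⟩ := Submodule.Quotient.mk_surjective _ y
  rw [← Submodule.Quotient.mk_smul, Submodule.Quotient.mk_eq_zero, hI, smul_eq_mul,
    MvPolynomial.mem_ideal_span_X_image] at hy
  rw [Submodule.Quotient.mk_eq_zero, hI, MvPolynomial.mem_ideal_span_X_image]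
  intro m hm
  obtain ⟨t, ht, htm⟩ := hy (Finsupp.single (⟨i, hi⟩ : Fin (r + 1)) 1 + m) (by
    rw [MvPolynomial.mem_support_iff, MvPolynomial.coeff_X_mul]
    exact MvPolynomial.mem_support_iff.1 hm)
  refine ⟨t, ht, ?_⟩
  have hti : t ≠ ⟨i, hi⟩ := fun e => by
    rw [e] at ht
    exact lt_irrefl _ (Set.mem_setOf_eq ▸ ht)
  rwa [Finsupp.add_apply, Finsupp.single_eq_of_ne hti, zero_add] at htm

/-- The polynomial ring is `0`-regular. -/
theorem isReg_ring : IsReg ((GrSyz.irrel (GrSyz.stdGr k (Fin (r + 1))))) (ringG (𝒜 := (GrSyz.stdGr k (Fin (r + 1))))) 0 := by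
  have hhomX : ((GrSyz.irrel (GrSyz.stdGr k (Fin (r + 1))))).toIdeal.IsHomogeneous (GrSyz.stdGr k (Fin (r + 1))) := ((GrSyz.irrel (GrSyz.stdGr k (Fin (r + 1))))).isHomogeneous
  let N := quotG (GrSyz.stdGr k (Fin (r + 1))) (ringPieces (GrSyz.stdGr k (Fin (r + 1)))) (ideal_homogeneous (GrSyz.stdGr k (Fin (r + 1))) hhomX)
  have hNtor : GrLC.gam ((GrSyz.irrel (GrSyz.stdGr k (Fin (r + 1))))).toIdeal N.carrier = ⊤ := by
    rw [eq_top_iff]
    intro y _
    obtain ⟨p, rfl⟩ := quotMk_surjective (GrSyz.stdGr k (Fin (r + 1))) (ringPieces (GrSyz.stdGr k (Fin (r + 1)))) (ideal_homogeneous (GrSyz.stdGr k (Fin (r + 1))) hhomX) y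
    exact ⟨1, fun t ht => by
      rw [← map_smul]
      refine LinearMap.mem_ker.1 ((ker_quotMk (GrSyz.stdGr k (Fin (r + 1))) (ringPieces (GrSyz.stdGr k (Fin (r + 1)))) (ideal_homogeneous (GrSyz.stdGr k (Fin (r + 1))) hhomX)).ge ?_)
      exact Ideal.mul_mem_right _ _ (by simpa using ht)⟩
  have hN : IsReg ((GrSyz.irrel (GrSyz.stdGr k (Fin (r + 1))))) N 0 := by
    rw [isReg_of_torsion_iff hNtor]
    rintro n hn _ ⟨p, hp, rfl⟩
    exact LinearMap.mem_ker.1 ((ker_quotMk (GrSyz.stdGr k (Fin (r + 1))) (ringPieces (GrSyz.stdGr k (Fin (r + 1)))) (ideal_homogeneous (GrSyz.stdGr k (Fin (r + 1))) hhomX)).ge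
      (Ideal.subset_span ⟨n, hn, hp⟩))
  haveI : Module.Finite (MvPolynomial (Fin (r + 1)) k) (ringG (𝒜 := (GrSyz.stdGr k (Fin (r + 1))))).carrier := inferInstanceAs (Module.Finite (MvPolynomial (Fin (r + 1)) k) (MvPolynomial (Fin (r + 1)) k))
  have hys : ∀ y ∈ List.ofFn (fun j : Fin (r + 1) => (MvPolynomial.X j : (MvPolynomial (Fin (r + 1)) k))),
      y ∈ (GrSyz.stdGr k (Fin (r + 1))) 1 := fun y hy => by
    obtain ⟨j, rfl⟩ := List.mem_ofFn.1 hy
    exact X_mem j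
  have key := isReg_quot_seq (𝒜 := (GrSyz.stdGr k (Fin (r + 1)))) hpos ha hhom _ hys (ringG (𝒜 := (GrSyz.stdGr k (Fin (r + 1))))) N
  have hk := ker_quotMk (GrSyz.stdGr k (Fin (r + 1))) (ringPieces (GrSyz.stdGr k (Fin (r + 1)))) (ideal_homogeneous (GrSyz.stdGr k (Fin (r + 1))) hhomX)
  refine (key (quotMk (GrSyz.stdGr k (Fin (r + 1))) (ringPieces (GrSyz.stdGr k (Fin (r + 1)))) (ideal_homogeneous (GrSyz.stdGr k (Fin (r + 1))) hhomX)) (isWeaklyRegular_X (k := k) (r := r))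
    (quotMk_surjective (GrSyz.stdGr k (Fin (r + 1))) (ringPieces (GrSyz.stdGr k (Fin (r + 1)))) (ideal_homogeneous (GrSyz.stdGr k (Fin (r + 1))) hhomX))
    (quotMk_grHom (GrSyz.stdGr k (Fin (r + 1))) (ringPieces (GrSyz.stdGr k (Fin (r + 1)))) (ideal_homogeneous (GrSyz.stdGr k (Fin (r + 1))) hhomX)) (hk.trans ?_) 0).2 hN
  show (GrSyz.irrel (GrSyz.stdGr k (Fin (r + 1)))).toIdeal = Ideal.ofList _ * (⊤ : Ideal (MvPolynomial (Fin (r + 1)) k))
  rw [Ideal.mul_top, irrel_eq_X, Ideal.ofList]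
  congr 1
  ext p
  simp only [Set.image_univ, Set.mem_range, List.mem_ofFn, Set.mem_setOf_eq]

section Module

variable {M : Type u} [AddCommGroup M] [Module (MvPolynomial (Fin (r + 1)) k) M] {τ : Type u} [SetLike τ M]
  [AddSubgroupClass τ M] {ℳ : ℤ → τ} [Decomposition ℳ] [SetLike.GradedSMul (GrSyz.stdGr k (Fin (r + 1))) ℳ]

/-- A resolution, with the pieces as additive subgroups. -/
noncomputable def addFree (F : GrSyz.FreeRes (GrSyz.stdGr k (Fin (r + 1))) ℳ) : GrSyz.FreeRes (GrSyz.stdGr k (Fin (r + 1))) (addG (GrSyz.stdGr k (Fin (r + 1))) ℳ).gr :=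
  { rk := F.rk, deg := F.deg, d := F.d, aug := F.aug, d_mem := F.d_mem, aug_mem := F.aug_mem
    aug_surjective := F.aug_surjective, exact_zero := F.exact_zero, exact_succ := F.exact_succ }

/-- A resolution, with the original pieces. -/
noncomputable def subFree (F : GrSyz.FreeRes (GrSyz.stdGr k (Fin (r + 1))) (addG (GrSyz.stdGr k (Fin (r + 1))) ℳ).gr) : GrSyz.FreeRes (GrSyz.stdGr k (Fin (r + 1))) ℳ :=
  { rk := F.rk, deg := F.deg, d := F.d, aug := F.aug, d_mem := F.d_mem, aug_mem := F.aug_mem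
    aug_surjective := F.aug_surjective, exact_zero := F.exact_zero, exact_succ := F.exact_succ }

theorem genLE_iff (F : GrSyz.FreeRes (GrSyz.stdGr k (Fin (r + 1))) ℳ) (hF : F.IsMinimal ((GrSyz.irrel (GrSyz.stdGr k (Fin (r + 1))))).toIdeal) (d : ℤ) :
    F.IsGenLE d ↔ IsReg ((GrSyz.irrel (GrSyz.stdGr k (Fin (r + 1))))) (addG (GrSyz.stdGr k (Fin (r + 1))) ℳ) d := by
  obtain ⟨S, -, hS⟩ := exists_linear_generators (a := (GrSyz.irrel (GrSyz.stdGr k (Fin (r + 1))))) hhom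
  exact ⟨fun h => isReg_of_genLE (F := addFree F) S hS isReg_ring h,
    fun h => genLE_of_isReg (F := addFree F) hpos hhom one_notMem isReg_ring hF h⟩

theorem isRegLE_iff [Module.Finite (MvPolynomial (Fin (r + 1)) k) M] (d : ℤ) :
    GrSyz.IsRegLE (GrSyz.stdGr k (Fin (r + 1))) ℳ ((GrSyz.irrel (GrSyz.stdGr k (Fin (r + 1))))).toIdeal d ↔ IsReg ((GrSyz.irrel (GrSyz.stdGr k (Fin (r + 1))))) (addG (GrSyz.stdGr k (Fin (r + 1))) ℳ) d := by
  refine ⟨fun ⟨F, hF, hd⟩ => (genLE_iff F hF d).1 hd, fun h => ?_⟩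
  haveI : Module.Finite (MvPolynomial (Fin (r + 1)) k) (addG (GrSyz.stdGr k (Fin (r + 1))) ℳ).carrier := inferInstanceAs (Module.Finite (MvPolynomial (Fin (r + 1)) k) M)
  obtain ⟨F, hF⟩ := exists_minimal_res isUnit_of_notMem (addG (GrSyz.stdGr k (Fin (r + 1))) ℳ)
  exact ⟨subFree F, hF, (genLE_iff (subFree F) hF d).2 h⟩

theorem reg_le_iff [Module.Finite (MvPolynomial (Fin (r + 1)) k) M] (d : ℤ) :
    GrSyz.reg (GrSyz.stdGr k (Fin (r + 1))) ℳ ((GrSyz.irrel (GrSyz.stdGr k (Fin (r + 1))))).toIdeal ≤ ((d : WithTop ℤ) : WithBot (WithTop ℤ)) ↔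
      IsReg ((GrSyz.irrel (GrSyz.stdGr k (Fin (r + 1))))) (addG (GrSyz.stdGr k (Fin (r + 1))) ℳ) d := by
  refine ⟨fun h => ?_, fun h => iInf₂_le (f := fun (e : ℤ) (_ : GrSyz.IsRegLE (GrSyz.stdGr k (Fin (r + 1))) ℳ ((GrSyz.irrel (GrSyz.stdGr k (Fin (r + 1))))).toIdeal e) =>
    ((e : WithTop ℤ) : WithBot (WithTop ℤ))) d ((isRegLE_iff d).2 h)⟩
  by_contra hne
  have h1 : (((d + 1 : ℤ) : WithTop ℤ) : WithBot (WithTop ℤ)) ≤ GrSyz.reg (GrSyz.stdGr k (Fin (r + 1))) ℳ ((GrSyz.irrel (GrSyz.stdGr k (Fin (r + 1))))).toIdeal := by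
    refine le_iInf₂ fun e he => ?_
    rw [WithBot.coe_le_coe, WithTop.coe_le_coe]
    by_contra hlt
    exact hne (((isRegLE_iff e).1 he).mono (by omega))
  have h2 := h1.trans h
  rw [WithBot.coe_le_coe, WithTop.coe_le_coe] at h2
  omega

theorem endDeg_iSup_le_iff (E : GrLC.StarInjRes (GrSyz.stdGr k (Fin (r + 1))) ℳ) (d : ℤ) :
    (⨆ i : ℕ, GrLC.endDeg (E.Hgr ((GrSyz.irrel (GrSyz.stdGr k (Fin (r + 1))))) i) + ((i : ℤ) : WithTop ℤ)) ≤
      ((d : WithTop ℤ) : WithBot (WithTop ℤ)) ↔ IsReg ((GrSyz.irrel (GrSyz.stdGr k (Fin (r + 1))))) (addG (GrSyz.stdGr k (Fin (r + 1))) ℳ) d := by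
  have hadd : ∀ (x : WithBot (WithTop ℤ)) (i : ℤ),
      x + ((i : WithTop ℤ) : WithBot (WithTop ℤ)) ≤ ((d : WithTop ℤ) : WithBot (WithTop ℤ)) ↔
        x ≤ (((d - i : ℤ) : WithTop ℤ) : WithBot (WithTop ℤ)) := by
    intro x i
    induction x using WithBot.recBotCoe with
    | bot => simp
    | coe y =>
      induction y using WithTop.recTopCoe with
      | top => rw [← WithBot.coe_add, WithTop.top_add]; simp
      | coe z =>
        rw [← WithBot.coe_add, WithBot.coe_le_coe, WithBot.coe_le_coe, ← WithTop.coe_add,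
          WithTop.coe_le_coe, WithTop.coe_le_coe]
        omega
  rw [iSup_le_iff]
  refine ⟨fun h i g hg => ?_, fun h i => (hadd _ i).2 ?_⟩
  · exact (van_endDeg (addRes ℳ E) i (d - i)).1 ((hadd _ i).1 (h i)) g (by omega)
  · exact (van_endDeg (addRes ℳ E) i (d - i)).2 fun n hn => h i n (by omega)

theorem weak_iff (E : GrLC.StarInjRes (GrSyz.stdGr k (Fin (r + 1))) ℳ) (d : ℤ) :
    (GrLC.endDeg (E.Hgr ((GrSyz.irrel (GrSyz.stdGr k (Fin (r + 1))))) 0) ≤ ((d : WithTop ℤ) : WithBot (WithTop ℤ)) ∧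
      ∀ i : ℕ, 0 < i → E.Hcomp ((GrSyz.irrel (GrSyz.stdGr k (Fin (r + 1))))) i (d - (i : ℤ) + 1) = ⊥) ↔ IsReg ((GrSyz.irrel (GrSyz.stdGr k (Fin (r + 1))))) (addG (GrSyz.stdGr k (Fin (r + 1))) ℳ) d := by
  rw [← isReg_iff_weak hhom (addG (GrSyz.stdGr k (Fin (r + 1))) ℳ) d]
  exact and_congr (van_endDeg (addRes ℳ E) 0 d)
    (forall₂_congr fun i _ => (van_iff E ((GrSyz.irrel (GrSyz.stdGr k (Fin (r + 1))))) i _).symm)

theorem endDeg_pieces_le_iff (d : ℤ) (h : GrLC.gam ((GrSyz.irrel (GrSyz.stdGr k (Fin (r + 1))))).toIdeal M = ⊤) :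
    GrLC.endDeg (addPieces ℳ) ≤ ((d : WithTop ℤ) : WithBot (WithTop ℤ)) ↔
      IsReg ((GrSyz.irrel (GrSyz.stdGr k (Fin (r + 1))))) (addG (GrSyz.stdGr k (Fin (r + 1))) ℳ) d := by
  rw [isReg_of_torsion_iff (M := addG (GrSyz.stdGr k (Fin (r + 1))) ℳ) h]
  constructor
  · intro hle n hn x hx
    by_contra hx0
    have h1 : ((n : WithTop ℤ) : WithBot (WithTop ℤ)) ≤ ((d : WithTop ℤ) : WithBot (WithTop ℤ)) :=
      le_trans (le_iSup₂ (f := fun (g : ℤ) (_ : addPieces ℳ g ≠ ⊥) =>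
        ((g : WithTop ℤ) : WithBot (WithTop ℤ))) n
          fun hb => hx0 ((AddSubgroup.eq_bot_iff_forall _).1 hb x hx)) hle
    rw [WithBot.coe_le_coe, WithTop.coe_le_coe] at h1
    omega
  · intro hall
    refine iSup₂_le fun n hn => ?_
    rw [WithBot.coe_le_coe, WithTop.coe_le_coe]
    by_contra hlt
    exact hn ((AddSubgroup.eq_bot_iff_forall _).2 (hall n (by omega)))

end Module

/-- Extended integers are determined by the integers above them. -/
theorem eq_of_forall_le_iff {x y : WithBot (WithTop ℤ)}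
    (h : ∀ d : ℤ, x ≤ ((d : WithTop ℤ) : WithBot (WithTop ℤ)) ↔
      y ≤ ((d : WithTop ℤ) : WithBot (WithTop ℤ))) : x = y := by
  have key : ∀ x y : WithBot (WithTop ℤ), (∀ d : ℤ, x ≤ ((d : WithTop ℤ) : WithBot (WithTop ℤ)) →
      y ≤ ((d : WithTop ℤ) : WithBot (WithTop ℤ))) → y ≤ x := by
    intro x y hxy
    induction x using WithBot.recBotCoe with
    | bot =>
      induction y using WithBot.recBotCoe with
      | bot => exact le_rfl
      | coe z =>
        induction z using WithTop.recTopCoe with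
        | top =>
          exact absurd (WithTop.le_coe_iff.1 (WithBot.coe_le_coe.1 (hxy 0 bot_le))) (by simp)
        | coe z =>
          have := hxy (z - 1) bot_le
          rw [WithBot.coe_le_coe, WithTop.coe_le_coe] at this
          omega
    | coe z =>
      induction z using WithTop.recTopCoe with
      | top =>
        induction y using WithBot.recBotCoe with
        | bot => exact bot_le
        | coe w => exact WithBot.coe_le_coe.2 le_top
      | coe z => exact hxy z le_rfl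
  exact le_antisymm (key y x fun d => (h d).2) (key x y fun d => (h d).1)

end GrInjLib.Poly
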